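import Mathlib
import Groth.Prelude.Def_NonAbH1
import Groth.Agent.TorsExtLib.Props
import Groth.Agent.AlgSpLib.Fpqc

/-!
# Descent along fpqc locally trivial schemes
-/

set_option autoImplicit false
set_option backward.isDefEq.respectTransparency false
universe u

open CategoryTheory CategoryTheory.Limits MonoidalCategory CartesianMonoidalCategory AlgebraicGeometry
open NonAbH1 TorsExtLib

noncomputable section

namespace Groth.Agent.TorsFpqc

variable {S : Scheme.{u}}

/-- Over every affine open, a section after a faithfully flat quasi-compact base change. -/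
theorem exists_local_section {X : Over S} (h : IsLocallyTrivialFor Scheme.fpqcPrecoverage X)
    {U : S.Opens} (hU : IsAffineOpen U) :
    ∃ (W : Scheme.{u}) (c : W ⟶ U.toScheme), Flat c ∧ Surjective c ∧ QuasiCompact c ∧
      Nonempty (Over.mk (c ≫ U.ι) ⟶ X) := by
  obtain ⟨R, hR, hsec⟩ := h
  obtain ⟨E, rfl⟩ := Precoverage.mem_iff_exists_zeroHypercover.mp hR
  haveI : QuasiCompactCover E.toPreZeroHypercover := Scheme.presieve₀_mem_qcPrecoverage_iff.mp E.mem₀.1
  obtain ⟨m, a, V, hV, hc⟩ := QuasiCompactCover.exists_isAffineOpen_of_isCompact E.toPreZeroHypercover hU.isCompact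
  have hfl : ∀ i, Flat (E.f i) := fun i => ((Scheme.ofArrows_mem_precoverage_iff _).mp E.mem₀.2).2 i
  choose t ht using fun i => hsec (E.f i) (Presieve.ofArrows.mk i)
  have hsub : ∀ k, V k ≤ E.f (a k) ⁻¹ᵁ U := fun k x hx => by
    change E.f (a k) x ∈ (U : Set S)
    rw [← hc]; exact Set.mem_iUnion_of_mem k ⟨x, hx, rfl⟩
  let b : ∀ k, (V k).toScheme ⟶ U.toScheme := fun k =>
    IsOpenImmersion.lift U.ι ((V k).ι ≫ E.f (a k)) (by
      rintro _ ⟨x, rfl⟩; rw [Scheme.Opens.range_ι]; exact hsub k x.2)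
  have hb : ∀ k, b k ≫ U.ι = (V k).ι ≫ E.f (a k) := fun k => IsOpenImmersion.lift_fac _ _ _
  haveI : IsAffine U.toScheme := hU
  haveI : ∀ k, IsAffine (V k).toScheme := fun k => hV k
  haveI : IsAffine (∐ fun k => (V k).toScheme) := inferInstance
  refine ⟨_, Sigma.desc b, ?_, ⟨fun s => ?_⟩, inferInstance,
    ⟨Over.homMk (Sigma.desc fun k => (V k).ι ≫ t (a k)) ?_⟩⟩
  · refine IsZariskiLocalAtSource.of_openCover (sigmaOpenCover (fun k => (V k).toScheme)) fun k => ?_
    change Flat (Sigma.ι (fun k => (V k).toScheme) k ≫ Sigma.desc b)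
    rw [Sigma.ι_desc]
    haveI := hfl (a k)
    haveI : Flat (b k ≫ U.ι) := hb k ▸ inferInstance
    refine MorphismProperty.of_postcomp (W := @Flat) (W' := @IsOpenImmersion) (b k) U.ι inferInstance ?_
    infer_instance
  · have : (s.1 : S) ∈ (U : Set S) := s.2
    rw [← hc, Set.mem_iUnion] at this
    obtain ⟨k, x, hx, hxs⟩ := this
    refine ⟨Sigma.ι (fun k => (V k).toScheme) k ⟨x, hx⟩, ?_⟩
    apply U.ι.isOpenEmbedding.injective
    rw [← Scheme.Hom.comp_apply, ← Scheme.Hom.comp_apply, Sigma.ι_desc_assoc, hb]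
    exact hxs
  · change (Sigma.desc fun k => (V k).ι ≫ t (a k)) ≫ X.hom = Sigma.desc b ≫ U.ι
    refine Sigma.hom_ext _ _ fun k => ?_
    simp [hb, ht]

/-- A property descends when it holds after faithfully flat quasi-compact base changes over affine opens. -/
theorem of_local (P : MorphismProperty Scheme.{u}) [IsZariskiLocalAtTarget P]
    [P.DescendsAlong (@Surjective ⊓ @Flat ⊓ @QuasiCompact)] {A B : Scheme.{u}} (g : A ⟶ B) (π : B ⟶ S)
    (h : ∀ U : S.Opens, IsAffineOpen U → ∃ (W : Scheme.{u}) (c : W ⟶ U.toScheme),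
      Flat c ∧ Surjective c ∧ QuasiCompact c ∧ P (pullback.snd g (pullback.fst π (c ≫ U.ι)))) : P g := by
  have htop : (⨆ U : S.affineOpens, π ⁻¹ᵁ U.1) = ⊤ := by
    rw [← Scheme.Hom.preimage_iSup, iSup_affineOpens_eq_top S, Scheme.Hom.preimage_top]
  refine IsZariskiLocalAtTarget.of_iSup_eq_top (fun U : S.affineOpens => π ⁻¹ᵁ U.1) htop fun U => ?_
  obtain ⟨W, c, hcf, hcs, hcq, hP⟩ := h U.1 U.2
  haveI := hcf; haveI := hcs; haveI := hcq
  let q := pullback.fst π (c ≫ U.1.ι)
  have sqV : IsPullback (π ⁻¹ᵁ U.1).ι (π ∣_ U.1) π U.1.ι := (isPullback_morphismRestrict π U.1).flip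
  let c' : pullback π (c ≫ U.1.ι) ⟶ (π ⁻¹ᵁ U.1).toScheme :=
    sqV.lift q (pullback.snd _ _ ≫ c) (by rw [Category.assoc]; exact pullback.condition)
  have sqc : IsPullback c' (pullback.snd π (c ≫ U.1.ι)) (π ∣_ U.1) c := by
    refine IsPullback.of_right ?_ (sqV.lift_snd _ _ _) sqV
    rw [sqV.lift_fst]
    exact IsPullback.of_hasPullback π (c ≫ U.1.ι)
  haveI : Flat c' := MorphismProperty.of_isPullback sqc.flip hcf
  haveI : Surjective c' := MorphismProperty.of_isPullback (P := @Surjective) sqc.flip hcs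
  haveI : QuasiCompact c' := MorphismProperty.of_isPullback (P := @QuasiCompact) sqc.flip hcq
  refine MorphismProperty.of_pullback_snd_of_descendsAlong (Q := @Surjective ⊓ @Flat ⊓ @QuasiCompact)
    (g := c') ⟨⟨inferInstance, inferInstance⟩, inferInstance⟩ ?_
  have sq : IsPullback (pullback.fst (g ∣_ (π ⁻¹ᵁ U.1)) c' ≫ (g ⁻¹ᵁ π ⁻¹ᵁ U.1).ι)
      (pullback.snd (g ∣_ (π ⁻¹ᵁ U.1)) c') g q := by
    have := (IsPullback.of_hasPullback (g ∣_ (π ⁻¹ᵁ U.1)) c').paste_horiz
      (isPullback_morphismRestrict g (π ⁻¹ᵁ U.1)).flip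
    rwa [sqV.lift_fst] at this
  rw [← sq.isoPullback_hom_snd, P.cancel_left_of_respectsIso]
  exact hP

variable {G X X' : Over S} [GrpObj G]

/-- A property of the group passes to a locally trivial pseudo-torsor. -/
theorem property_of_torsor (P : MorphismProperty Scheme.{u}) [IsZariskiLocalAtTarget P] [P.IsStableUnderBaseChange]
    [P.DescendsAlong (@Surjective ⊓ @Flat ⊓ @QuasiCompact)] (a : AlgGrp.Action G X)
    (ha : NonAbH1.IsTorsorFor Scheme.fpqcPrecoverage a) (hG : P G.hom) : P X.hom := by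
  refine of_local P X.hom (𝟙 S) fun U hU => ?_
  obtain ⟨W, c, hcf, hcs, hcq, ⟨p⟩⟩ := exists_local_section ha.2 hU
  refine ⟨W, c, hcf, hcs, hcq, ?_⟩
  have h1 : P (snd X (Over.mk (c ≫ U.ι))).left := property_of_point a ha.1 hG p
  have sq1 := isPullback_fst_snd X (Over.mk (c ≫ U.ι))
  have sq2 : IsPullback (pullback.fst X.hom (pullback.fst (𝟙 S) (c ≫ U.ι)))
      (pullback.snd X.hom (pullback.fst (𝟙 S) (c ≫ U.ι)) ≫ pullback.snd (𝟙 S) (c ≫ U.ι)) X.hom (c ≫ U.ι) := by
    have := (IsPullback.of_hasPullback X.hom (pullback.fst (𝟙 S) (c ≫ U.ι))).paste_vert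
      (IsPullback.of_hasPullback (𝟙 S) (c ≫ U.ι))
    rwa [Category.comp_id] at this
  have e := sq2.isoIsPullback_hom_snd _ _ sq1
  haveI : IsIso (pullback.snd (𝟙 S) (c ≫ U.ι)) := inferInstance
  rw [← P.cancel_right_of_respectsIso _ (pullback.snd (𝟙 S) (c ≫ U.ι)), ← e, P.cancel_left_of_respectsIso]
  exact h1

/-- Equivariant morphisms of torsors are isomorphisms. -/
theorem isIso_of_equivariant (a : AlgGrp.Action G X) (a' : AlgGrp.Action G X') (hX : IsPseudoTorsorSch a)
    (hX' : IsPseudoTorsorSch a') (hl : IsLocallyTrivialFor Scheme.fpqcPrecoverage X) (f : X ⟶ X')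
    (hf : a.act ≫ f = (G ◁ f) ≫ a'.act) : IsIso f := by
  haveI : IsIso f.left := of_local (MorphismProperty.isomorphisms Scheme) f.left X'.hom fun U hU => by
    obtain ⟨W, c, hcf, hcs, hcq, ⟨p⟩⟩ := exists_local_section hl hU
    refine ⟨W, c, hcf, hcs, hcq, ?_⟩
    let T : Over S := Over.mk (c ≫ U.ι)
    haveI := isIso_orb a hX p
    haveI := isIso_orb a' hX' (p ≫ f)
    have e : orb a p ≫ (f ▷ T) = orb a' (p ≫ f) := by
      apply CartesianMonoidalCategory.hom_ext
      · simp only [T, orb, Category.assoc, whiskerRight_fst, lift_fst_assoc, hf, lift_fst]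
        rw [MonoidalCategory.whiskerLeft_comp, Category.assoc]
      · simp [orb]
    haveI : IsIso (f ▷ T) := by
      haveI : IsIso (orb a p ≫ (f ▷ T)) := by rw [e]; infer_instance
      exact IsIso.of_isIso_comp_left (orb a p) _
    haveI : IsIso (f ▷ T).left := inferInstanceAs (IsIso ((Over.forget S).map (f ▷ T)))
    -- the whiskered map is the base change of `f`
    have sq1 : IsPullback (fst X T).left (f ▷ T).left f.left (fst X' T).left := by
      refine IsPullback.of_bot ?_ (by rw [← Over.comp_left, ← Over.comp_left, whiskerRight_fst])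
        (isPullback_fst_snd X' T)
      have : (f ▷ T).left ≫ (snd X' T).left = (snd X T).left := by rw [← Over.comp_left, whiskerRight_snd]
      rw [this, Over.w f]
      exact isPullback_fst_snd X T
    have sq2 := IsPullback.of_hasPullback X'.hom (c ≫ U.ι)
    have sq3 := sq2.isoIsPullback_hom_fst _ _ (isPullback_fst_snd X' T)
    have sq4 : IsPullback (fst X T).left ((f ▷ T).left ≫ (sq2.isoIsPullback _ _ (isPullback_fst_snd X' T)).inv)
        f.left (pullback.fst X'.hom (c ≫ U.ι)) :=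
      sq1.of_iso (Iso.refl _) (Iso.refl _) (sq2.isoIsPullback _ _ (isPullback_fst_snd X' T)).symm (Iso.refl _)
        (by simp) (by simp) (by simp) (by simp [IsPullback.isoIsPullback_inv_fst])
    show IsIso _
    rw [← sq4.isoPullback_inv_snd]
    infer_instance
  haveI : IsIso ((Over.forget S).map f) := ‹IsIso f.left›
  exact isIso_of_reflects_iso f (Over.forget S)

end Groth.Agent.TorsFpqc
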