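import Groth.Agent.TorsFpqcLib.Family

/-!
# Locally trivial actions are torsors
-/

set_option autoImplicit false
set_option backward.isDefEq.respectTransparency false
universe u

open CategoryTheory CategoryTheory.Limits MonoidalCategory CartesianMonoidalCategory AlgebraicGeometry
open NonAbH1 TorsExtLib
open scoped MonObj

attribute [-instance] CategoryTheory.Hom.commGroup

noncomputable section

namespace Groth.Agent.TorsFpqc

variable {S : Scheme.{u}} {G X : Over S} [GrpObj G] (a : AlgGrp.Action G X)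

theorem act_one {T : Over S} (x : T ⟶ X) : lift (1 : T ⟶ G) x ≫ a.act = x := by
  have e : lift (1 : T ⟶ G) x = lift (toUnit T) x ≫ (η[G] ▷ X) := by
    refine CartesianMonoidalCategory.hom_ext _ _ ?_ (by simp)
    simp [Hom.one_def]
  rw [e, Category.assoc, a.one_act, leftUnitor_hom, lift_snd]

theorem act_mul {T : Over S} (g g' : T ⟶ G) (x : T ⟶ X) :
    lift (g * g') x ≫ a.act = lift g (lift g' x ≫ a.act) ≫ a.act := by
  have e : lift (g * g') x = lift (lift g g') x ≫ (μ[G] ▷ X) := by
    refine CartesianMonoidalCategory.hom_ext _ _ ?_ (by simp)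
    simp [Hom.mul_def]
  rw [e, Category.assoc, a.mul_act, lift_lift_associator_hom_assoc, lift_whiskerLeft_assoc]

/-- The shear map is an isomorphism over a base where the orbit map of a point is one. -/
theorem isIso_shear_whiskerRight {T : Over S} (p : T ⟶ X) [IsIso (orb a p)] :
    IsIso (lift a.act (snd G X) ▷ T) := by
  -- the coordinate of a point with respect to `p`
  let θ : X ⊗ T ⟶ G := inv (orb a p) ≫ fst G T
  have hsnd : inv (orb a p) ≫ snd G T = snd X T := by rw [IsIso.inv_comp_eq]; simp [orb]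
  have hθ : ∀ {Z : Over S} (x : Z ⟶ X) (t : Z ⟶ T), lift (lift x t ≫ θ) (t ≫ p) ≫ a.act = x := by
    intro Z x t
    have h1 : lift (lift x t ≫ θ) t = lift x t ≫ inv (orb a p) := by
      refine CartesianMonoidalCategory.hom_ext _ _ (by simp [θ]) ?_
      rw [lift_snd, Category.assoc, hsnd, lift_snd]
    have h2 := congrArg (· ≫ orb a p ≫ fst X T) h1
    rw [Category.assoc (lift x t), IsIso.inv_hom_id_assoc, lift_fst] at h2
    simp only [orb, lift_fst, lift_whiskerLeft_assoc] at h2
    exact h2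
  have hθ' : ∀ {Z : Over S} (g : Z ⟶ G) (t : Z ⟶ T), lift (lift g (t ≫ p) ≫ a.act) t ≫ θ = g := by
    intro Z g t
    have h1 : lift (lift g (t ≫ p) ≫ a.act) t = lift g t ≫ orb a p := by
      simp [orb, comp_lift]
    rw [h1]
    simp [θ]
  let x : (X ⊗ X) ⊗ T ⟶ X := fst _ _ ≫ fst X X
  let y : (X ⊗ X) ⊗ T ⟶ X := fst _ _ ≫ snd X X
  let t : (X ⊗ X) ⊗ T ⟶ T := snd _ _
  refine ⟨lift (lift ((lift x t ≫ θ) * (lift y t ≫ θ)⁻¹) y) t, ?_, ?_⟩
  · let g : (G ⊗ X) ⊗ T ⟶ G := fst _ _ ≫ fst G X
    let v : (G ⊗ X) ⊗ T ⟶ X := fst _ _ ≫ snd G X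
    let r : (G ⊗ X) ⊗ T ⟶ T := snd _ _
    have key : lift (lift g v ≫ a.act) r ≫ θ = g * (lift v r ≫ θ) := by
      conv_lhs => rw [← hθ v r, ← act_mul]
      exact hθ' _ _
    have ex : (lift a.act (snd G X) ▷ T) ≫ x = lift g v ≫ a.act := by
      simp only [x, whiskerRight_fst_assoc, lift_fst, g, v, ← comp_lift, lift_fst_snd, Category.comp_id]
    have ey : (lift a.act (snd G X) ▷ T) ≫ y = v := by simp [y, v]
    have et : (lift a.act (snd G X) ▷ T) ≫ t = r := by simp [t, r]
    rw [comp_lift, comp_lift, ey, et, MonObj.comp_mul, GrpObj.comp_inv, comp_lift_assoc, comp_lift_assoc, ex, ey, et,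
      key, mul_inv_cancel_right]
    refine CartesianMonoidalCategory.hom_ext _ _ ?_ (by simp [r])
    refine CartesianMonoidalCategory.hom_ext _ _ (by simp [g]) (by simp [v])
  · refine CartesianMonoidalCategory.hom_ext _ _ ?_ (by simp [t])
    simp only [Category.assoc, whiskerRight_fst, lift_fst_assoc, comp_lift, lift_snd, Category.id_comp]
    refine CartesianMonoidalCategory.hom_ext _ _ ?_ (by simp [y])
    rw [lift_fst, act_mul]
    have hy := hθ y t
    have : lift (lift y t ≫ θ)⁻¹ y ≫ a.act = t ≫ p := by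
      conv_lhs => arg 1; arg 2; rw [← hy]
      rw [← act_mul, inv_mul_cancel, act_one]
    rw [this, hθ]

/-- Actions trivialised by an fpqc family are torsors. -/
theorem isTorsorFor_of_trivialised {R : Presieve S} (hR : R ∈ Scheme.fpqcPrecoverage S)
    (h : ∀ ⦃S' : Scheme.{u}⦄ (f : S' ⟶ S), R f → ∃ s : Over.mk f ⟶ X, IsIso (orb a s)) :
    NonAbH1.IsTorsorFor Scheme.fpqcPrecoverage a := by
  refine ⟨?_, R, hR, fun S' f hf => ⟨(h f hf).choose.left, Over.w (h f hf).choose⟩⟩
  haveI : IsIso (lift a.act (snd G X)).left :=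
    of_family (MorphismProperty.isomorphisms Scheme) (lift a.act (snd G X)).left (X ⊗ X).hom hR fun S' f hf => by
      obtain ⟨s, hs⟩ := h f hf
      haveI := hs
      haveI := isIso_shear_whiskerRight a s
      let T : Over S := Over.mk f
      let Θ := lift a.act (snd G X)
      haveI : IsIso (Θ ▷ T).left := inferInstanceAs (IsIso ((Over.forget S).map (Θ ▷ T)))
      have sq1 : IsPullback (fst (G ⊗ X) T).left (Θ ▷ T).left Θ.left (fst (X ⊗ X) T).left :=
        (forget_map_whiskerRight Θ T).flip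
      have sq2 := IsPullback.of_hasPullback (X ⊗ X).hom f
      have e := sq2.isoIsPullback_inv_fst _ _ (isPullback_fst_snd (X ⊗ X) T)
      have sq4 : IsPullback (fst (G ⊗ X) T).left ((Θ ▷ T).left ≫ (sq2.isoIsPullback _ _ (isPullback_fst_snd (X ⊗ X) T)).inv)
          Θ.left (pullback.fst (X ⊗ X).hom f) :=
        sq1.of_iso (Iso.refl _) (Iso.refl _) (sq2.isoIsPullback _ _ (isPullback_fst_snd (X ⊗ X) T)).symm (Iso.refl _)
          (by simp) (by simp) (by simp) (by simp [IsPullback.isoIsPullback_inv_fst])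
      show IsIso _
      rw [← sq4.isoPullback_inv_snd]
      infer_instance
  haveI : IsIso ((Over.forget S).map (lift a.act (snd G X))) := ‹IsIso (lift a.act (snd G X)).left›
  exact isIso_of_reflects_iso (lift a.act (snd G X)) (Over.forget S)

end Groth.Agent.TorsFpqc
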