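import Groth.Agent.TorsFpqcLib.Basic

/-!
# Descent along fpqc families
-/

set_option autoImplicit false
set_option backward.isDefEq.respectTransparency false
universe u

open CategoryTheory CategoryTheory.Limits MonoidalCategory CartesianMonoidalCategory AlgebraicGeometry
open NonAbH1 TorsExtLib

noncomputable section

namespace Groth.Agent.TorsFpqc

variable {S : Scheme.{u}}

/-- A property descends along the members of an fpqc covering family. -/
theorem of_family (P : MorphismProperty Scheme.{u}) [IsZariskiLocalAtTarget P] [P.IsStableUnderBaseChange]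
    [P.DescendsAlong (@Surjective ⊓ @Flat ⊓ @QuasiCompact)] {A B : Scheme.{u}} (g : A ⟶ B) (π : B ⟶ S)
    {R : Presieve S} (hR : R ∈ Scheme.fpqcPrecoverage S)
    (h : ∀ ⦃S' : Scheme.{u}⦄ (f : S' ⟶ S), R f → P (pullback.snd g (pullback.fst π f))) : P g := by
  refine of_local P g π fun U hU => ?_
  obtain ⟨E, rfl⟩ := Precoverage.mem_iff_exists_zeroHypercover.mp hR
  haveI : QuasiCompactCover E.toPreZeroHypercover := Scheme.presieve₀_mem_qcPrecoverage_iff.mp E.mem₀.1
  obtain ⟨m, a, V, hV, hc⟩ := QuasiCompactCover.exists_isAffineOpen_of_isCompact E.toPreZeroHypercover hU.isCompact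
  have hfl : ∀ i, Flat (E.f i) := fun i => ((Scheme.ofArrows_mem_precoverage_iff _).mp E.mem₀.2).2 i
  have hsub : ∀ k, V k ≤ E.f (a k) ⁻¹ᵁ U := fun k x hx => by
    change E.f (a k) x ∈ (U : Set S)
    rw [← hc]; exact Set.mem_iUnion_of_mem k ⟨x, hx, rfl⟩
  let b : ∀ k, (V k).toScheme ⟶ U.toScheme := fun k =>
    IsOpenImmersion.lift U.ι ((V k).ι ≫ E.f (a k)) (by
      rintro _ ⟨x, rfl⟩; rw [Scheme.Opens.range_ι]; exact hsub k x.2)
  have hb : ∀ k, b k ≫ U.ι = (V k).ι ≫ E.f (a k) := fun k => IsOpenImmersion.lift_fac _ _ _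
  haveI : IsAffine U.toScheme := hU
  haveI : ∀ k, IsAffine (V k).toScheme := fun k => hV k
  haveI : IsAffine (∐ fun k => (V k).toScheme) := inferInstance
  refine ⟨_, Sigma.desc b, ?_, ⟨fun s => ?_⟩, inferInstance, ?_⟩
  · refine IsZariskiLocalAtSource.of_openCover (sigmaOpenCover (fun k => (V k).toScheme)) fun k => ?_
    change Flat (Sigma.ι (fun k => (V k).toScheme) k ≫ Sigma.desc b)
    rw [Sigma.ι_desc]
    haveI := hfl (a k)
    haveI : Flat (b k ≫ U.ι) := hb k ▸ inferInstance
    refine MorphismProperty.of_postcomp (W := @Flat) (W' := @IsOpenImmersion) (b k) U.ι inferInstance ?_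
    infer_instance
  · have : (s.1 : S) ∈ (U : Set S) := s.2
    rw [← hc, Set.mem_iUnion] at this
    obtain ⟨k, x, hx, hxs⟩ := this
    refine ⟨Sigma.ι (fun k => (V k).toScheme) k ⟨x, hx⟩, ?_⟩
    apply U.ι.isOpenEmbedding.injective
    rw [← Scheme.Hom.comp_apply, ← Scheme.Hom.comp_apply, Sigma.ι_desc_assoc, hb]
    exact hxs
  · let C := (sigmaOpenCover fun k => (V k).toScheme).pullback₁ (pullback.snd π (Sigma.desc b ≫ U.ι))
    refine IsZariskiLocalAtTarget.of_openCover C fun (k : Fin m) => ?_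
    let σ : (V k).toScheme ⟶ ∐ fun k => (V k).toScheme := Sigma.ι (fun k => (V k).toScheme) k
    have hσ : σ ≫ Sigma.desc b ≫ U.ι = (V k).ι ≫ E.f (a k) := by simp [σ, hb]
    let l : pullback (pullback.snd π (Sigma.desc b ≫ U.ι)) σ ⟶ pullback π (E.f (a k)) :=
      pullback.lift (pullback.fst _ _ ≫ pullback.fst π (Sigma.desc b ≫ U.ι)) (pullback.snd _ _ ≫ (V k).ι) (by
        rw [Category.assoc, pullback.condition, ← Category.assoc, pullback.condition, Category.assoc,
          Category.assoc, hσ])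
    have hl : l ≫ pullback.fst π (E.f (a k)) =
        pullback.fst _ _ ≫ pullback.fst π (Sigma.desc b ≫ U.ι) := pullback.lift_fst _ _ _
    let q := pullback.fst π (Sigma.desc b ≫ U.ι)
    have sq1 := (IsPullback.of_hasPullback (pullback.snd g q) (pullback.fst (pullback.snd π (Sigma.desc b ≫ U.ι)) σ)).paste_horiz
      (IsPullback.of_hasPullback g q)
    have sq2 := IsPullback.of_hasPullback g (pullback.fst π (E.f (a k)))
    rw [← hl] at sq1
    exact MorphismProperty.of_isPullback (IsPullback.of_right' sq1 sq2) (h (E.f (a k)) (Presieve.ofArrows.mk (a k)))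

end Groth.Agent.TorsFpqc
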